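import Mathlib
import Groth.Agent.Lib.Helper7.Hensel.Integral
import Groth.Agent.Lib.Helper7.Hensel.Iff

namespace H9HI
open Polynomial
open Groth.Agent.Helper7.Hensel
universe u v

/-- **Lemma H**: the Henselian quadratic. -/
theorem exists_root_quadratic {D : Type*} [CommRing D] (I : Ideal D) [h : HenselianRing D I]
    (d : D) (hd : d ∈ I) :
    ∃ z w : D, (1 + 4 * d) * (z * z + z) + d = 0 ∧ z = d * w := by
  have hjac := h.jac
  have hu : IsUnit (1 + 4 * d) := by
    have := Ideal.mem_jacobson_bot.mp (hjac (Ideal.mul_mem_left _ 4 hd)) 1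
    simpa [mul_comm, add_comm] using this
  obtain ⟨v, hv⟩ := hu
  have hv1 : (1 + 4 * d) * (↑v⁻¹ : D) = 1 := by rw [← hv, Units.mul_inv]
  set d' : D := d * ↑v⁻¹ with hd'
  let f : D[X] := X ^ 2 + (X + C d')
  have hdeg : (X + C d' : D[X]).degree < (2 : ℕ) := by
    refine lt_of_le_of_lt (degree_add_le _ _) ?_
    rw [max_lt_iff]
    constructor
    · exact lt_of_le_of_lt degree_X_le (by norm_num)
    · exact lt_of_le_of_lt degree_C_le (by norm_num)
  have hmonic : f.Monic := monic_X_pow_add hdeg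
  have hf0 : f.eval 0 = d' := by simp [f]
  have hf'0 : f.derivative.eval 0 = 1 := by simp [f]
  obtain ⟨z, hz, hzI⟩ := h.is_henselian f hmonic 0 (by
    rw [hf0]; exact Ideal.mul_mem_right _ _ hd) (by rw [hf'0, map_one]; exact isUnit_one)
  rw [sub_zero] at hzI
  have hroot : z ^ 2 + (z + d') = 0 := by
    have := hz
    simp only [f, IsRoot.def, eval_add, eval_pow, eval_X, eval_C] at this
    exact this
  have hu2 : IsUnit (1 + z) := by
    have := Ideal.mem_jacobson_bot.mp (hjac hzI) 1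
    simpa [mul_comm, add_comm] using this
  obtain ⟨y, hy⟩ := hu2
  have hy1 : (1 + z) * (↑y⁻¹ : D) = 1 := by rw [← hy, Units.mul_inv]
  refine ⟨z, -(↑v⁻¹ * ↑y⁻¹), ?_, ?_⟩
  · have : (1 + 4 * d) * (z * z + z) + d = (1 + 4 * d) * (z ^ 2 + (z + d')) +
        d * (1 - (1 + 4 * d) * ↑v⁻¹) := by rw [hd']; ring
    rw [this, hroot, hv1]; ring
  · have h1 : z * (1 + z) = -d' := by linear_combination hroot
    calc z = z * ((1 + z) * ↑y⁻¹) := by rw [hy1, mul_one]
      _ = (z * (1 + z)) * ↑y⁻¹ := by ring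
      _ = d * -(↑v⁻¹ * ↑y⁻¹) := by rw [h1, hd']; ring

/-- **Lemma I**: the idempotent produced by a root of the quadratic. -/
theorem idem_of_root {𝔠 : Type*} [CommRing 𝔠] (e z d : 𝔠) (hd : d = e * e - e)
    (hz : (1 + 4 * d) * (z * z + z) + d = 0) :
    (e + (2 * e - 1) * z) * (e + (2 * e - 1) * z) = e + (2 * e - 1) * z := by
  subst hd
  linear_combination hz

/-- **Lemma J**: the Henselian quadratic in the subring of "integral" elements of a commutative
subring of a noncommutative ring. -/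
theorem exists_root_in_comap {A : Type u} [CommRing A] (tA : A)
    (hA : HenselianRing A (Ideal.span {tA}))
    {𝔐 : Type*} [Ring 𝔐] {𝔠 : Type u} [CommRing 𝔠] (inc : 𝔠 →+* 𝔐)
    (hinc : Function.Injective inc) (ρ : A →+* 𝔠) (𝔄 : Subring 𝔐)
    (hρ : ∀ a, inc (ρ a) ∈ 𝔄)
    (hint : ∀ x ∈ 𝔄, ∃ χ : A[X], χ.Monic ∧ eval₂ (inc.comp ρ) x χ = 0)
    (d d₁ : 𝔠) (hd₁ : inc d₁ ∈ 𝔄) (hd : d = ρ tA * d₁) :
    ∃ z w : 𝔠, (1 + 4 * d) * (z * z + z) + d = 0 ∧ z = d * w ∧ inc w ∈ 𝔄 := by
  let C'' : Subring 𝔠 := Subring.comap inc 𝔄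
  let ρ'' : A →+* C'' := ρ.codRestrict C'' (fun a => hρ a)
  letI : Algebra A C'' := ρ''.toAlgebra
  have hintC : Algebra.IsIntegral A C'' := by
    refine ⟨fun x => ?_⟩
    obtain ⟨χ, hχm, hχ⟩ := hint (inc x.1) x.2
    refine ⟨χ, hχm, ?_⟩
    apply Subtype.val_injective
    apply hinc
    have h1 : inc ((eval₂ (algebraMap A C'') x χ : C'') : 𝔠) =
        eval₂ (inc.comp ρ) (inc x.1) χ := by
      have : (inc.comp C''.subtype).comp (algebraMap A C'') = inc.comp ρ := by
        ext a; rfl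
      rw [← this]
      exact Polynomial.hom_eval₂ χ (algebraMap A C'') (inc.comp C''.subtype) x
    rw [h1, hχ]
    simp
  have hH : HenselianRing C'' ((Ideal.span {tA}).map (algebraMap A C'')) :=
    ((Gabber.of_henselianRing hA).of_isIntegral).henselianRing
  have hdmem : inc d ∈ 𝔄 := by
    rw [hd, map_mul]
    exact 𝔄.mul_mem (hρ tA) hd₁
  let dd : C'' := ⟨d, hdmem⟩
  have hddI : dd ∈ (Ideal.span {tA}).map (algebraMap A C'') := by
    have : dd = algebraMap A C'' tA * ⟨d₁, hd₁⟩ := by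
      apply Subtype.val_injective
      exact hd
    rw [this]
    exact Ideal.mul_mem_right _ _ (Ideal.mem_map_of_mem _ (Ideal.subset_span rfl))
  obtain ⟨z, w, hzw, hz⟩ := exists_root_quadratic _ dd hddI
  refine ⟨z.1, w.1, ?_, ?_, w.2⟩
  · have := congrArg C''.subtype hzw
    simp only [map_add, map_mul, map_one, map_zero, map_ofNat] at this
    exact this
  · have := congrArg C''.subtype hz
    simp only [map_mul] at this
    exact this

end H9HI
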