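import Mathlib
import Groth.Agent.Lib.Helper9.Hor.Approx
import Groth.Agent.Lib.Helper9.HI.Quad

namespace H9Hor.Approx

section PoleLE
variable {O K : Type*} [CommRing O] [CommRing K] [Algebra O K] {t : O}

theorem PoleLE.add {a : ℕ} {I J : Type*} {W W' : Matrix I J K} (h : PoleLE t a W)
    (h' : PoleLE t a W') : PoleLE t a (W + W') := fun i j => by
  obtain ⟨z, hz⟩ := h i j
  obtain ⟨z', hz'⟩ := h' i j
  exact ⟨z + z', by rw [Matrix.add_apply, mul_add, hz, hz', map_add]⟩

theorem PoleLE.neg {a : ℕ} {I J : Type*} {W : Matrix I J K} (h : PoleLE t a W) :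
    PoleLE t a (-W) := fun i j => by
  obtain ⟨z, hz⟩ := h i j
  exact ⟨-z, by rw [Matrix.neg_apply, mul_neg, hz, map_neg]⟩

theorem PoleLE.sub {a : ℕ} {I J : Type*} {W W' : Matrix I J K} (h : PoleLE t a W)
    (h' : PoleLE t a W') : PoleLE t a (W - W') := by
  rw [sub_eq_add_neg]; exact h.add h'.neg

theorem poleLE_one (a : ℕ) {I : Type*} [DecidableEq I] : PoleLE t a (1 : Matrix I I K) :=
  fun i j => by
    by_cases hij : i = j
    · subst hij
      exact ⟨t ^ a, by rw [Matrix.one_apply_eq, mul_one]⟩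
    · exact ⟨0, by rw [Matrix.one_apply_ne hij, mul_zero, map_zero]⟩

theorem poleLE_zero_of_int {I J : Type*} {W : Matrix I J K}
    (h : ∀ i j, ∃ z : O, W i j = algebraMap O K z) : PoleLE t 0 W := fun i j => by
  obtain ⟨z, hz⟩ := h i j
  exact ⟨z, by rw [pow_zero, map_one, one_mul, hz]⟩

end PoleLE
end H9Hor.Approx

namespace H9HI
open Polynomial H9Hor.Approx
universe u v

section Main
variable {O K : Type*} [CommRing O] [CommRing K] [Algebra O K] {t : O}
variable {L₀ : Type u} [CommRing L₀] {ι : L₀ →+* K}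
variable {A : Type u} [CommRing A]

/-- a Henselian integral model of `L₀`, closed in `K`. -/
structure HensHyp (t : O) (ι : L₀ →+* K) (j : A →+* L₀) (tA : A) : Prop where
  hens : HenselianRing A (Ideal.span {tA})
  jt : ι (j tA) = algebraMap O K t
  inv : IsUnit (j tA)
  int : ∀ a : A, ∃ z : O, ι (j a) = algebraMap O K z
  closed : ∀ (y : L₀) (c : ℕ) (z : O), ι y = algebraMap O K (t ^ c * z) →
    ∃ a : A, y = j (tA ^ c * a)

variable {j : A →+* L₀} {tA : A}

/-- Cayley–Hamilton for matrices in the image of `M_n(A)`. -/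
theorem exists_monic_eval₂_eq_zero {n : ℕ} (j : A →+* L₀)
    (x : Matrix (Fin n) (Fin n) L₀) (hx : x ∈ (RingHom.mapMatrix j (m := Fin n)).range) :
    ∃ χ : A[X], χ.Monic ∧
      eval₂ ((algebraMap L₀ (Matrix (Fin n) (Fin n) L₀)).comp j) x χ = 0 := by
  obtain ⟨c, rfl⟩ := hx
  refine ⟨c.charpoly, Matrix.charpoly_monic c, ?_⟩
  have h1 : (RingHom.mapMatrix j (m := Fin n)).comp (algebraMap A (Matrix (Fin n) (Fin n) A)) =
      (algebraMap L₀ (Matrix (Fin n) (Fin n) L₀)).comp j := by
    ext a i k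
    simp [Matrix.algebraMap_matrix_apply, apply_ite j]
  rw [← h1, ← Polynomial.hom_eval₂]
  have h2 := Matrix.aeval_self_charpoly c
  rw [Polynomial.aeval_def] at h2
  rw [h2, map_zero]

end Main
end H9HI
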