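import Mathlib
import Groth.Agent.Lib.Helper9.Hor.Approx
import Groth.Agent.Lib.Helper9.HI.Quad
import Groth.Agent.Lib.Helper9.HI.Pole

namespace H9HI
open Polynomial H9Hor.Approx
universe u v

section Ring
variable {𝓜 : Type*} [Ring 𝓜]

/-- close idempotents are conjugate: the intertwiner. -/
theorem intertwine {P p : 𝓜} (hP : P * P = P) (hp : p * p = p) :
    (1 + (P - p) * (2 * p - 1)) * p = P * p ∧ P * (1 + (P - p) * (2 * p - 1)) = P * p := by
  constructor
  · have : (1 + (P - p) * (2 * p - 1)) * p = p + 2 * (P * (p * p)) - P * p - 2 * (p * (p * p)) + p * p := by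
      noncomm_ring
    rw [this, hp, hp]; noncomm_ring
  · have : P * (1 + (P - p) * (2 * p - 1)) = P + 2 * (P * P * p) - P * P - 2 * (P * p * p) + P * p := by
      noncomm_ring
    rw [this, hP, mul_assoc P p p, hp]; noncomm_ring

end Ring

section Main
variable {O K : Type*} [CommRing O] [CommRing K] [Algebra O K] {t : O}
variable {L₀ : Type u} [CommRing L₀] {ι : L₀ →+* K}
variable {A : Type u} [CommRing A] {j : A →+* L₀} {tA : A}

theorem mequiv₂_of_close {n : ℕ} (hjac : ∀ x : O, IsUnit (1 + t * x))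
    {P p : Matrix (Fin n) (Fin n) K} (hP : P * P = P) (hp : p * p = p) {k : ℕ}
    (hk : PoleLE t k P) (hclose : Small t (k + 1) (p - P)) : MEquiv₂ p P := by
  have hpk : PoleLE t k p := by
    have : p = P + (p - P) := by abel
    rw [this]
    exact hk.add (hclose.poleLE.mono (Nat.zero_le _))
  have h2p : PoleLE t k (2 * p - 1) := by
    rw [two_mul]
    exact (hpk.add hpk).sub (poleLE_one k)
  have hPp : Small t (1 + k) (P - p) := by
    have : P - p = -(p - P) := by abel
    rw [this, add_comm]; exact hclose.neg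
  have hsm : Small t 1 ((P - p) * (2 * p - 1)) := Small.mul_right hPp h2p
  obtain ⟨V, hV⟩ := isUnit_one_add_small hjac hsm
  obtain ⟨h1, h2⟩ := intertwine hP hp
  rw [← hV] at h1 h2
  -- V p = P p = P V
  set Vm : Matrix (Fin n) (Fin n) K := ↑V with hVm
  set Vi : Matrix (Fin n) (Fin n) K := ↑V⁻¹ with hVi
  have hmi : Vm * Vi = 1 := Units.mul_inv V
  have him : Vi * Vm = 1 := Units.inv_mul V
  refine ⟨P * Vm, p * Vi, ?_, ?_⟩
  · calc P * Vm * (p * Vi) = P * (Vm * p) * Vi := by noncomm_ring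
      _ = P * (P * Vm) * Vi := by rw [h1, ← h2]
      _ = P * P * (Vm * Vi) := by noncomm_ring
      _ = P := by rw [hP, hmi, mul_one]
  · calc p * Vi * (P * Vm) = p * Vi * (Vm * p) := by rw [h2, ← h1]
      _ = p * (Vi * Vm) * p := by noncomm_ring
      _ = p := by rw [him, mul_one, hp]


theorem exists_idem_approx [IsLocalization.Away t K] (h : Hyp t ι) (hh : HensHyp t ι j tA)
    {n : ℕ} (P : Matrix (Fin n) (Fin n) K) (hP : P * P = P) :
    ∃ p : Matrix (Fin n) (Fin n) L₀, p * p = p ∧ MEquiv₂ (p.map ι) P := by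
  classical
  obtain ⟨k, hk⟩ := exists_poleLE (t := t) P
  obtain ⟨E₀, hE₀⟩ := h.approx_matrix P (3 * k + 1)
  set S := P - E₀.map ι with hS
  have hÊ₀ : E₀.map ι = P - S := by rw [hS]; abel
  set δ : Matrix (Fin n) (Fin n) L₀ := E₀ * E₀ - E₀ with hδ
  have hδι : δ.map ι = -(P * S) - S * P + S * S + S := by
    have e1 : δ.map ι = E₀.map ι * E₀.map ι - E₀.map ι := by
      rw [hδ, ← RingHom.mapMatrix_apply, map_sub, map_mul, RingHom.mapMatrix_apply]
    have e2 : (P - S) * (P - S) - (P - S) = (P * P - P) - P * S - S * P + S * S + S := by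
      noncomm_ring
    rw [e1, hÊ₀, e2, hP, sub_self, zero_sub]
  have hS1 : Small t (2 * k + 1) S := hE₀.mono (by omega)
  have hδsm : Small t (2 * k + 1) (δ.map ι) := by
    rw [hδι]
    have a1 : Small t (2 * k + 1) (P * S) := Small.mul_left hk (hE₀.mono (by omega))
    have a2 : Small t (2 * k + 1) (S * P) := Small.mul_right (hE₀.mono (by omega)) hk
    have a3 : Small t (2 * k + 1) (S * S) :=
      Small.mul_left (a := 0) hE₀.poleLE (hE₀.mono (by omega))
    exact ((a1.neg.sub a2).add a3).add hS1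
  have hcl : ∀ a b, ∃ x : A, δ a b = j (tA ^ (2 * k + 1) * x) := by
    intro a b
    obtain ⟨z, hz⟩ := hδsm a b
    rw [Matrix.map_apply] at hz
    exact hh.closed _ _ z hz
  choose δ₁ hδ₁ using hcl
  -- the commutative ring
  let Adj : Subalgebra L₀ (Matrix (Fin n) (Fin n) L₀) := Algebra.adjoin L₀ {E₀}
  letI : CommRing Adj := Algebra.adjoinCommRingOfComm L₀ (by
    intro a ha b hb
    rw [Set.mem_singleton_iff] at ha hb
    rw [ha, hb])
  let inc : Adj →+* Matrix (Fin n) (Fin n) L₀ := Adj.val.toRingHom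
  have hinc : Function.Injective inc := Subtype.val_injective
  let ρ : A →+* Adj := (algebraMap L₀ Adj).comp j
  let 𝔄 : Subring (Matrix (Fin n) (Fin n) L₀) := (RingHom.mapMatrix j (m := Fin n)).range
  have hincρ : inc.comp ρ = (algebraMap L₀ (Matrix (Fin n) (Fin n) L₀)).comp j := by
    ext a : 1; rfl
  have hρ : ∀ a, inc (ρ a) ∈ 𝔄 := by
    intro a
    refine ⟨algebraMap A (Matrix (Fin n) (Fin n) A) a, ?_⟩
    have : inc (ρ a) = algebraMap L₀ (Matrix (Fin n) (Fin n) L₀) (j a) := rfl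
    rw [this]
    ext i l
    simp [Matrix.algebraMap_matrix_apply, apply_ite j]
  have hint : ∀ x ∈ 𝔄, ∃ χ : A[X], χ.Monic ∧ eval₂ (inc.comp ρ) x χ = 0 := by
    intro x hx
    rw [hincρ]
    exact exists_monic_eval₂_eq_zero j x hx
  let e₀ : Adj := ⟨E₀, Algebra.subset_adjoin rfl⟩
  let d : Adj := e₀ * e₀ - e₀
  have hincd : inc d = δ := rfl
  obtain ⟨u, hu⟩ := hh.inv
  let d₁ : Adj := algebraMap L₀ Adj (↑u⁻¹ : L₀) * d
  have hd : d = ρ tA * d₁ := by
    show d = algebraMap L₀ Adj (j tA) * (algebraMap L₀ Adj (↑u⁻¹ : L₀) * d)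
    rw [← mul_assoc, ← map_mul, ← hu, Units.mul_inv, map_one, one_mul]
  have hd₁ : inc d₁ ∈ 𝔄 := by
    refine ⟨Matrix.of fun a b => tA ^ (2 * k) * δ₁ a b, ?_⟩
    ext a b
    have e1 : inc d₁ a b = (↑u⁻¹ : L₀) * δ a b := by
      have : inc d₁ = (↑u⁻¹ : L₀) • δ := by
        show (algebraMap L₀ Adj (↑u⁻¹ : L₀) * d : Adj).1 = _
        rw [← hincd]
        show (algebraMap L₀ (Matrix (Fin n) (Fin n) L₀) (↑u⁻¹ : L₀)) * inc d = _
        rw [Algebra.smul_def]
      rw [this, Matrix.smul_apply, smul_eq_mul]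
    rw [e1, hδ₁, RingHom.mapMatrix_apply, Matrix.map_apply, Matrix.of_apply, pow_succ, map_mul,
      map_mul, map_mul, ← hu]
    rw [show (↑u⁻¹ : L₀) * (j (tA ^ (2 * k)) * ↑u * j (δ₁ a b)) =
      (↑u⁻¹ * ↑u) * (j (tA ^ (2 * k)) * j (δ₁ a b)) by ring, Units.inv_mul, one_mul]
  obtain ⟨z, w, hzw, hz, hw⟩ :=
    exists_root_in_comap tA hh.hens inc hinc ρ 𝔄 hρ hint d d₁ hd₁ hd
  have hidem := idem_of_root e₀ z d rfl hzw
  refine ⟨inc (e₀ + (2 * e₀ - 1) * z), by rw [← map_mul, hidem], ?_⟩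
  -- smallness
  have hince₀ : inc e₀ = E₀ := rfl
  obtain ⟨Wt, hWt⟩ := hw
  have hWpole : PoleLE t 0 ((inc w).map ι) := by
    apply poleLE_zero_of_int
    intro a b
    rw [← hWt, RingHom.mapMatrix_apply, Matrix.map_apply, Matrix.map_apply]
    exact hh.int _
  have hZ : (inc z).map ι = δ.map ι * (inc w).map ι := by
    rw [hz, map_mul, hincd, ← RingHom.mapMatrix_apply, map_mul, RingHom.mapMatrix_apply,
      RingHom.mapMatrix_apply]
  have hZsm : Small t (2 * k + 1) ((inc z).map ι) := by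
    rw [hZ]
    exact Small.mul_right (a := 0) hδsm hWpole
  have hpmap : (inc (e₀ + (2 * e₀ - 1) * z)).map ι =
      E₀.map ι + (2 * E₀.map ι - 1) * (inc z).map ι := by
    rw [map_add, map_mul, map_sub, map_mul, map_one, map_ofNat, hince₀]
    simp only [← RingHom.mapMatrix_apply, map_add, map_mul, map_sub, map_one, map_ofNat]
  have h2E : PoleLE t k (2 * E₀.map ι - 1) := by
    rw [two_mul, hÊ₀]
    have : PoleLE t k (P - S) := hk.sub (hE₀.poleLE.mono (Nat.zero_le _))
    exact (this.add this).sub (poleLE_one k)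
  have hprod : Small t (k + 1) ((2 * E₀.map ι - 1) * (inc z).map ι) :=
    Small.mul_left h2E (hZsm.mono (by omega))
  have hclose : Small t (k + 1) ((inc (e₀ + (2 * e₀ - 1) * z)).map ι - P) := by
    have : (inc (e₀ + (2 * e₀ - 1) * z)).map ι - P =
        (2 * E₀.map ι - 1) * (inc z).map ι - S := by
      rw [hpmap, hS]; abel
    rw [this]
    exact hprod.sub (hE₀.mono (by omega))
  have hpp : (inc (e₀ + (2 * e₀ - 1) * z)).map ι * (inc (e₀ + (2 * e₀ - 1) * z)).map ι =
      (inc (e₀ + (2 * e₀ - 1) * z)).map ι := by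
    rw [← Matrix.map_mul, ← map_mul, hidem]
  exact mequiv₂_of_close h.jac hP hpp hk hclose

end Main
end H9HI
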