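import Mathlib
import Groth.Agent.Lib.Helper9.Hor.Approx
import Groth.Agent.Lib.Helper9.Hor.RetractBC
import Groth.Agent.Lib.Helper9.Hor.LDescent
import Groth.Agent.Lib.Helper9.HI.Idem

set_option linter.unusedSectionVars false

namespace H9HI
open Polynomial H9Hor.Approx TensorProduct
universe u v

section Desc
variable {O K : Type*} [CommRing O] [CommRing K] [Algebra O K] {t : O} [IsLocalization.Away t K]
variable {C : Type u} {C' : Type v} [CommRing C] [CommRing C'] [Algebra C C'] (e : C' ≃+* K)
variable {A : Type u} [CommRing A] {j : A →+* C} {tA : A}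

/-- descent of finitely generated projective modules along `C → C' ≃ K` under `Hyp` and
`HensHyp`. -/
theorem exists_projective_descent
    (h : Hyp t ((e : C' →+* K).comp (algebraMap C C')))
    (hh : HensHyp t ((e : C' →+* K).comp (algebraMap C C')) j tA)
    (M' : Type*) [AddCommGroup M'] [Module C' M'] [Module.Finite C' M'] [Module.Projective C' M'] :
    ∃ (M : Type u) (_ : AddCommGroup M) (_ : Module C M), Module.Finite C M ∧
      Module.Projective C M ∧ Nonempty (C' ⊗[C] M ≃ₗ[C'] M') := by
  classical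
  obtain ⟨n, f', g', -, -, hfg'⟩ := Module.Finite.exists_comp_eq_id_of_projective C' M'
  have hfgx' : ∀ x, f' (g' x) = x := fun x => LinearMap.congr_fun hfg' x
  set P' := LinearMap.toMatrix' (g' ∘ₗ f') with hP'
  have hP'idem : P' * P' = P' := idem_toMatrix' f' g' hfgx'
  have hPidem : P'.map (e : C' →+* K) * P'.map (e : C' →+* K) = P'.map (e : C' →+* K) := by
    rw [← Matrix.map_mul, hP'idem]
  obtain ⟨p, hp, hpP⟩ := exists_idem_approx h hh (P'.map (e : C' →+* K)) hPidem
  have hcomp : p.map ((e : C' →+* K).comp (algebraMap C C')) =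
      (p.map (algebraMap C C')).map (e : C' →+* K) := by
    ext a b; simp
  rw [hcomp] at hpP
  have h1 := hpP.map (e.symm : K →+* C')
  rw [map_map_symm, map_map_symm] at h1
  -- the module
  let M : Submodule C (Fin n → C) := LinearMap.range (Matrix.toLin' p)
  let f : (Fin n → C) →ₗ[C] M := (Matrix.toLin' p).rangeRestrict
  let g : M →ₗ[C] (Fin n → C) := M.subtype
  have hfg : ∀ x, f (g x) = x := by
    rintro ⟨x, y, rfl⟩
    apply Subtype.ext
    show Matrix.toLin' p (Matrix.toLin' p y) = Matrix.toLin' p y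
    rw [← LinearMap.comp_apply, ← Matrix.toLin'_mul, hp]
  have hgf : LinearMap.toMatrix' (g ∘ₗ f) = p := by
    have : g ∘ₗ f = Matrix.toLin' p := by
      ext x : 1; rfl
    rw [this, LinearMap.toMatrix'_toLin']
  have h2 : MEquiv₂ (LinearMap.toMatrix' (gBC (C' := C') g ∘ₗ fBC f))
      (LinearMap.toMatrix' (g' ∘ₗ f')) := by
    rw [toMatrix'_gBC_fBC, hgf]
    exact h1
  refine ⟨M, inferInstance, inferInstance, ?_, ?_, ?_⟩
  · exact Module.Finite.range _
  · exact Module.Projective.of_split g f (LinearMap.ext hfg)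
  · exact nonempty_equiv_of_mequiv₂ (fBC (C' := C') f) (gBC g) (fBC_gBC f g hfg) f' g' hfgx' h2

end Desc
end H9HI
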