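import Mathlib
import Groth.Agent.Lib.Helper9.Hor.Approx
import Groth.Agent.Lib.Helper9.Hor.LSeries
import Groth.Agent.Lib.Helper9.HI.Descent
import Groth.Agent.Lib.Helper9.HW.Local

namespace H9HI
open Polynomial H9Hor.Approx TensorProduct
universe u v

section General
variable {O K L₀ : Type*} [CommRing O] [CommRing K] [CommRing L₀] [Algebra O K]
variable {A : Type*} [CommRing A]
variable {t : O} {ι : L₀ →+* K} [IsLocalization.Away t K] {j : A →+* L₀} {tA : A}

theorem units_of_closed
    (htA : tA ∈ (⊥ : Ideal A).jacobson)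
    (jt : ι (j tA) = algebraMap O K t)
    (dense : ∀ (x : K) (c : ℕ), ∃ (y : L₀) (z : O), x = ι y + algebraMap O K (t ^ c * z))
    (closed : ∀ (y : L₀) (c : ℕ) (z : O), ι y = algebraMap O K (t ^ c * z) →
      ∃ a : A, y = j (tA ^ c * a)) :
    ∀ y : L₀, IsUnit (ι y) → IsUnit y := by
  intro y hy
  obtain ⟨w, hw⟩ := hy.exists_right_inv
  obtain ⟨⟨z, ⟨_, k, rfl⟩⟩, hz⟩ := IsLocalization.surj (Submonoid.powers t) (ι y)
  simp only [] at hz
  obtain ⟨y', z', hyz⟩ := dense w (k + 1)
  have h1 : ι (y * y' - 1) = algebraMap O K (t ^ 1 * (- (z * z'))) := by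
    have h2 : ι y' = w - algebraMap O K (t ^ (k + 1) * z') := by rw [hyz]; ring
    rw [map_sub, map_mul, map_one, h2, mul_sub, hw, pow_succ, mul_assoc, map_mul, ← mul_assoc, hz,
      ← map_mul]
    simp only [pow_one, mul_neg, map_neg, map_mul]
    ring
  obtain ⟨a, ha⟩ := closed _ _ _ h1
  have h3 : y * y' = j (1 + tA * a) := by
    rw [map_add, map_one, ← pow_one tA, ← ha]; ring
  have h4 : IsUnit (1 + tA * a) := by
    have := (Ideal.mem_jacobson_bot.mp htA) a
    rwa [add_comm] at this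
  have h5 : IsUnit (y * y') := h3 ▸ h4.map j
  exact isUnit_of_mul_isUnit_left h5

end General

section Concrete
open H9Hor.LSeries H9HW
variable {R : Type u} [CommRing R] {B : Type u} [CommRing B] [Algebra R B] [Algebra R[X] B]
  [IsScalarTower R R[X] B]
  (hB : Hens2.IsPairHenselization R[X] (Ideal.span {(X : R[X])}) B)
  (ψ : B →ₐ[R[X]] PowerSeries R)
variable {L : Type u} [CommRing L] [Algebra B L] [IsLocalization.Away (algebraMap R[X] B X) L]
  (ι : L →+* LaurentSeries R)
  (hι : ∀ b : B, ι (algebraMap B L b) = HahnSeries.ofPowerSeries ℤ R (ψ b))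

omit [Algebra R B] [IsScalarTower R R[X] B] in
theorem psi_poly (p : R[X]) : ψ (algebraMap R[X] B p) = (p : PowerSeries R) := by
  rw [ψ.commutes]; rfl

include hι in
omit [Algebra R B] [IsScalarTower R R[X] B] in
theorem iota_t : ι (algebraMap B L (algebraMap R[X] B X)) =
    algebraMap (PowerSeries R) (LaurentSeries R) PowerSeries.X := by
  rw [hι, psi_poly, Polynomial.coe_X]; rfl

include hB hι in
theorem closed_hens (y : L) (c : ℕ) (z : PowerSeries R)
    (hy : ι y = algebraMap (PowerSeries R) (LaurentSeries R) (PowerSeries.X ^ c * z)) :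
    ∃ a : B, y = algebraMap B L ((algebraMap R[X] B X) ^ c * a) := by
  obtain ⟨r, b₀, hb₀⟩ := IsLocalization.Away.surj (algebraMap R[X] B X) y
  have h1 : HahnSeries.ofPowerSeries ℤ R (ψ b₀) =
      HahnSeries.ofPowerSeries ℤ R (PowerSeries.X ^ (c + r) * z) := by
    rw [← hι, ← hb₀, map_mul, hy, map_pow, iota_t ψ ι hι, LaurentSeries.coe_algebraMap, ← map_pow,
      ← map_mul]
    congr 1; ring
  have h2 : ψ b₀ = PowerSeries.X ^ (c + r) * z := HahnSeries.ofPowerSeries_injective h1
  obtain ⟨p, hp⟩ := exists_poly_sub_mem hB (c + r) b₀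
  rw [Ideal.mem_span_singleton] at hp
  obtain ⟨d, hd⟩ := hp
  have h3 : (p : PowerSeries R) = PowerSeries.X ^ (c + r) * (z - ψ d) := by
    have := congrArg ψ hd
    rw [map_sub, psi_poly, map_mul, map_pow, psi_poly, Polynomial.coe_X, h2] at this
    rw [mul_sub, ← this]; ring
  have h4 : X ^ (c + r) ∣ p := by
    rw [Polynomial.X_pow_dvd_iff]
    intro i hi
    have : PowerSeries.X ^ (c + r) ∣ (p : PowerSeries R) := ⟨_, h3⟩
    rw [PowerSeries.X_pow_dvd_iff] at this
    rw [← Polynomial.coeff_coe]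
    exact this i hi
  obtain ⟨q, hq⟩ := h4
  refine ⟨algebraMap R[X] B q + d, ?_⟩
  have hu : IsUnit (algebraMap B L (algebraMap R[X] B X) ^ r) :=
    (IsLocalization.Away.algebraMap_isUnit _).pow _
  apply hu.mul_left_injective
  show y * _ = _ * _
  have hb : b₀ = algebraMap R[X] B p + (algebraMap R[X] B X) ^ (c + r) * d := by rw [← hd]; ring
  rw [hb₀, hb, hq]
  simp only [map_mul, map_pow, map_add]
  ring

include hι in
omit [Algebra R B] [IsScalarTower R R[X] B] in
theorem dense_hens (x : LaurentSeries R) (c : ℕ) :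
    ∃ (y : L) (z : PowerSeries R),
      x = ι y + algebraMap (PowerSeries R) (LaurentSeries R) (PowerSeries.X ^ c * z) := by
  obtain ⟨P, a, hP⟩ := exists_mul_X_pow x
  set T : R[X] := PowerSeries.trunc (c + a) P with hT
  set z : PowerSeries R := PowerSeries.mk fun i => PowerSeries.coeff (i + (c + a)) P with hz
  have hPz : P = PowerSeries.X ^ (c + a) * z + (T : PowerSeries R) :=
    PowerSeries.eq_X_pow_mul_shift_add_trunc (c + a) P
  have huX : IsUnit (algebraMap B L (algebraMap R[X] B X)) :=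
    IsLocalization.Away.algebraMap_isUnit _
  obtain ⟨u, hu⟩ := huX
  refine ⟨((u⁻¹ : Lˣ) : L) ^ a * algebraMap B L (algebraMap R[X] B T), z, ?_⟩
  have hXa := isUnit_ofPS_X_pow (R := R) a
  apply hXa.mul_left_injective
  simp only []
  rw [hP, add_mul, LaurentSeries.coe_algebraMap]
  have h1 : ι (((u⁻¹ : Lˣ) : L) ^ a * algebraMap B L (algebraMap R[X] B T)) *
      HahnSeries.ofPowerSeries ℤ R (PowerSeries.X ^ a) =
      HahnSeries.ofPowerSeries ℤ R (T : PowerSeries R) := by
    have h2 : HahnSeries.ofPowerSeries ℤ R ((PowerSeries.X : PowerSeries R) ^ a) =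
        ι ((u : L) ^ a) := by
      rw [hu, map_pow, map_pow, iota_t ψ ι hι, LaurentSeries.coe_algebraMap]
    rw [h2, ← map_mul, mul_right_comm, ← mul_pow, Units.inv_mul, one_pow, one_mul, hι, psi_poly]
  rw [h1, ← map_mul, ← map_add]
  congr 1
  conv_lhs => rw [hPz]
  ring

include hB hι in
theorem hyp_hens : Hyp (PowerSeries.X : PowerSeries R) ι := by
  refine ⟨?_, dense_hens ψ ι hι, ?_⟩
  · intro x
    rw [PowerSeries.isUnit_iff_constantCoeff]
    simp
  · exact units_of_closed (j := algebraMap B L) (t_mem_jacobson hB) (iota_t ψ ι hι)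
      (dense_hens ψ ι hι) (closed_hens hB ψ ι hι)

include hB hι in
theorem hensHyp_hens : HensHyp (PowerSeries.X : PowerSeries R) ι (algebraMap B L)
    (algebraMap R[X] B X) := by
  refine ⟨?_, iota_t ψ ι hι, IsLocalization.Away.algebraMap_isUnit _, fun a => ⟨ψ a, hι a⟩,
    closed_hens hB ψ ι hι⟩
  have := hB.1
  rwa [map_span_X] at this

end Concrete

end H9HI
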